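import Mathlib
import Cfsg.Prelude.Def_Characters
import Cfsg.Agent.H514.DP.Core
import Cfsg.Agent.Classification.TypeZIV.Parity

/-!
# Random generation (S5714): the coset lemma

`G` finite perfect, `A` a normal subset, `u : ι → G` any family. The number of `x` with no `x * u i` in `A` is at most
`|G| / (|ι|² α) * ∑ i j, min 1 (√|C(u i⁻¹ u j)| / d)`, where `α = |A| / |G|` and `d` is a lower bound of the degrees of
the nontrivial complex representations (`MinDeg G d`).
-/

set_option autoImplicit false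
set_option linter.unusedSectionVars false

namespace Cfsg.Agent.H262.Rg.Engine

open Cfsg Cfsg.Agent.Characters Cfsg.Agent.H686.CharKit Cfsg.Agent.H514.DP Subgroup
open scoped ComplexConjugate

universe u

section Corr

variable {G : Type u} [Group G] [Fintype G]

/-- autocorrelation of a function. -/
noncomputable def corr (f : G → ℂ) (t : G) : ℂ := ∑ y, f (t * y) * conj (f y)

theorem corr_eq [Fintype (IrrCharacter G)] {f : G → ℂ} (hf : IsClassFunction G f) (t : G) :
    corr f t = (Nat.card G : ℂ) * ∑ χ : IrrCharacter G,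
      ((‖classInner f (χ : G → ℂ)‖ ^ 2 : ℝ) : ℂ) * ((χ : G → ℂ) t / (χ : G → ℂ) 1) := by
  have h1 : ∀ y, conj (f y) = ∑ χ : IrrCharacter G, conj (classInner f (χ : G → ℂ)) * conj ((χ : G → ℂ) y) := by
    intro y
    have h2 := congrArg (fun z : ℂ => conj z) (congrFun (Core.classFunction_eq_sum hf) y)
    simp only [Finset.sum_apply, Pi.smul_apply, smul_eq_mul, map_sum, map_mul] at h2
    exact h2
  unfold corr
  simp only [h1, Finset.mul_sum]
  rw [Finset.sum_comm]
  refine Finset.sum_congr rfl fun χ _ => ?_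
  have h3 := Cfsg.Agent.Classification.TypeZIV.Parity.sum_conv hf χ.2 t
  have h4 : ∑ y, f y * conj ((χ : G → ℂ) y) = (Nat.card G : ℂ) * classInner f (χ : G → ℂ) := by
    rw [Core.classInner_def, ← mul_assoc, mul_inv_cancel₀ Core.card_ne_zero_complex, one_mul]
  rw [h4] at h3
  have h5 : ∑ y, f (t * y) * (conj (classInner f (χ : G → ℂ)) * conj ((χ : G → ℂ) y)) =
      conj (classInner f (χ : G → ℂ)) * ∑ y, f (t * y) * conj ((χ : G → ℂ) y) := by
    rw [Finset.mul_sum]
    refine Finset.sum_congr rfl fun y _ => ?_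
    ring
  rw [h5, h3]
  have h6 : ((‖classInner f (χ : G → ℂ)‖ ^ 2 : ℝ) : ℂ) = conj (classInner f (χ : G → ℂ)) * classInner f (χ : G → ℂ) := by
    rw [← Complex.normSq_eq_norm_sq, Complex.normSq_eq_conj_mul_self]
  rw [h6]
  ring

theorem sum_inner_sq [Fintype (IrrCharacter G)] {f : G → ℂ} (hf : IsClassFunction G f) :
    (Nat.card G : ℝ) * ∑ χ : IrrCharacter G, ‖classInner f (χ : G → ℂ)‖ ^ 2 = ∑ y, ‖f y‖ ^ 2 := by
  have h := corr_eq hf 1
  have h1 : corr f 1 = ((∑ y, ‖f y‖ ^ 2 : ℝ) : ℂ) := by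
    unfold corr
    push_cast
    refine Finset.sum_congr rfl fun y _ => ?_
    rw [one_mul, mul_comm, ← Complex.normSq_eq_conj_mul_self, Complex.normSq_eq_norm_sq]
    push_cast
    rfl
  rw [h1] at h
  have h2 : ∀ χ : IrrCharacter G, (χ : G → ℂ) 1 / (χ : G → ℂ) 1 = 1 := fun χ =>
    div_self (Core.isIrr_apply_one_ne_zero χ.2)
  simp only [h2, mul_one] at h
  exact_mod_cast h.symm

end Corr

section Count

variable {G : Type u} [Group G] [Fintype G]

open scoped Classical in
/-- indicator of a set. -/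
noncomputable def ind (A : Set G) (g : G) : ℂ := if g ∈ A then 1 else 0

/-- closed under conjugation. -/
def Normal {G : Type u} [Group G] (A : Set G) : Prop := ∀ g ∈ A, ∀ h : G, h * g * h⁻¹ ∈ A

omit [Fintype G] in
theorem Normal.iff {A : Set G} (hA : Normal A) (g h : G) : h * g * h⁻¹ ∈ A ↔ g ∈ A := by
  refine ⟨fun h1 => ?_, fun h1 => hA g h1 h⟩
  have := hA _ h1 h⁻¹
  have e : h⁻¹ * (h * g * h⁻¹) * h⁻¹⁻¹ = g := by group
  rwa [e] at this

theorem ind_class {A : Set G} (hA : Normal A) : IsClassFunction G (ind A) := by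
  intro g h
  have h1 := hA.iff g h
  unfold ind
  by_cases h2 : g ∈ A
  · rw [if_pos h2, if_pos (h1.2 h2)]
  · rw [if_neg h2, if_neg (fun h3 => h2 (h1.1 h3))]

/-- number of `y` with `y` and `t * y` in `A`. -/
noncomputable def N (A : Set G) (t : G) : ℕ := Nat.card {y : G // t * y ∈ A ∧ y ∈ A}

theorem corr_ind (A : Set G) (t : G) : corr (ind A) t = (N A t : ℂ) := by
  classical
  unfold corr N ind
  rw [Nat.card_eq_fintype_card, Fintype.card_subtype, Finset.card_filter]
  push_cast
  refine Finset.sum_congr rfl fun y _ => ?_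
  by_cases h1 : t * y ∈ A <;> by_cases h2 : y ∈ A <;> simp [h1, h2]

theorem N_le (A : Set G) (t : G) : N A t ≤ Nat.card A := by
  unfold N
  exact Nat.card_le_card_of_injective (fun y => (⟨y.1, y.2.2⟩ : A)) fun a b h => by
    apply Subtype.ext
    exact congrArg (fun z : A => (z : G)) h

theorem inner_one (A : Set G) : classInner (ind A) (1 : G → ℂ) = (Nat.card A : ℂ) / Nat.card G := by
  classical
  rw [Core.classInner_def]
  unfold ind
  simp only [Pi.one_apply, map_one, mul_one]
  rw [div_eq_inv_mul]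
  congr 1
  rw [Nat.card_eq_fintype_card, Fintype.card_subtype, Finset.card_filter]
  push_cast
  rfl

theorem norm_le_sqrt [Fintype (IrrCharacter G)] (χ : IrrCharacter G) (t : G) :
    ‖(χ : G → ℂ) t‖ ≤ √(Nat.card (centralizer ({t} : Set G)) : ℝ) := by
  rw [← sum_normSq t]
  refine Real.le_sqrt_of_sq_le ?_
  rw [← Complex.normSq_eq_norm_sq]
  exact Finset.single_le_sum (f := fun χ : IrrCharacter G => Complex.normSq ((χ : G → ℂ) t))
    (fun _ _ => Complex.normSq_nonneg _) (Finset.mem_univ χ)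

/-- density. -/
noncomputable def dens (A : Set G) : ℝ := (Nat.card A : ℝ) / Nat.card G

/-- the discrepancy. -/
noncomputable def disc (d : ℕ) (t : G) : ℝ := min 1 (√(Nat.card (centralizer ({t} : Set G)) : ℝ) / d)

theorem N_bound (hperf : commutator G = ⊤) {A : Set G} (hA : Normal A) {d : ℕ} (hd0 : 0 < d) (hd : MinDeg G d) (t : G) :
    (N A t : ℝ) ≤ Nat.card G * (dens A ^ 2 + dens A * disc d t) := by
  classical
  have := Core.finite_irr (G := G)
  have := Fintype.ofFinite (IrrCharacter G)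
  have hG : (0 : ℝ) < Nat.card G := by exact_mod_cast Nat.card_pos
  have hdens : 0 ≤ dens A := by unfold dens; positivity
  have hd0' : (0 : ℝ) < d := by exact_mod_cast hd0
  have hAG : (Nat.card A : ℝ) = Nat.card G * dens A := by
    unfold dens
    field_simp
  unfold disc
  rcases le_total (1 : ℝ) (√(Nat.card (centralizer ({t} : Set G)) : ℝ) / d) with h | h
  · rw [min_eq_left h, mul_one]
    have h1 : (N A t : ℝ) ≤ Nat.card A := by exact_mod_cast N_le A t
    rw [hAG] at h1
    nlinarith [mul_nonneg hG.le (sq_nonneg (dens A))]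
  · rw [min_eq_right h]
    set s : ℝ := √(Nat.card (centralizer ({t} : Set G)) : ℝ) / d with hs
    have hs0 : 0 ≤ s := by positivity
    have hc := corr_eq (ind_class hA) t
    rw [corr_ind] at hc
    have hre := congrArg Complex.re hc
    rw [Complex.natCast_re] at hre
    rw [hre]
    have e1 : ((Nat.card G : ℂ) * ∑ χ : IrrCharacter G,
      ((‖classInner (ind A) (χ : G → ℂ)‖ ^ 2 : ℝ) : ℂ) * ((χ : G → ℂ) t / (χ : G → ℂ) 1)).re =
      (Nat.card G : ℝ) * ∑ χ : IrrCharacter G,
        ‖classInner (ind A) (χ : G → ℂ)‖ ^ 2 * ((χ : G → ℂ) t / (χ : G → ℂ) 1).re := by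
      rw [← Complex.ofReal_natCast, Complex.re_ofReal_mul, Complex.re_sum]
      congr 1
      refine Finset.sum_congr rfl fun χ _ => ?_
      rw [Complex.re_ofReal_mul]
    rw [e1]
    refine mul_le_mul_of_nonneg_left ?_ hG.le
    set one : IrrCharacter G := ⟨1, Core.isIrr_one⟩ with hone
    rw [← Finset.add_sum_erase _ _ (Finset.mem_univ one)]
    refine add_le_add (le_of_eq ?_) ?_
    · have e2 : classInner (ind A) (one : G → ℂ) = (Nat.card A : ℂ) / Nat.card G := inner_one A
      rw [e2]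
      have e3 : ((one : G → ℂ) t / (one : G → ℂ) 1).re = 1 := by
        simp [hone]
      rw [e3, mul_one]
      unfold dens
      rw [norm_div, Complex.norm_natCast, Complex.norm_natCast]
    · have h1 : ∀ χ ∈ Finset.univ.erase one, ‖classInner (ind A) (χ : G → ℂ)‖ ^ 2 * ((χ : G → ℂ) t / (χ : G → ℂ) 1).re
          ≤ ‖classInner (ind A) (χ : G → ℂ)‖ ^ 2 * s := by
        intro χ hχ
        refine mul_le_mul_of_nonneg_left ?_ (by positivity)
        refine (Complex.re_le_norm _).trans ?_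
        rw [norm_div, hs]
        have h2 : (χ : G → ℂ) 1 ≠ 1 := by
          intro h3
          have h4 := eq_one_of_perf hperf χ.2 h3
          exact (Finset.mem_erase.1 hχ).1 (Subtype.ext h4)
        obtain ⟨n, hn, hn0, hn1⟩ := MinDeg.le hd χ.2 h2
        rw [hn1, Complex.norm_natCast]
        refine div_le_div₀ (Real.sqrt_nonneg _) (norm_le_sqrt χ t) hd0' (by exact_mod_cast hn)
      refine (Finset.sum_le_sum h1).trans ?_
      rw [← Finset.sum_mul]
      refine mul_le_mul_of_nonneg_right ?_ hs0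
      have h2 := sum_inner_sq (ind_class hA)
      have h3 : ∑ y, ‖ind A y‖ ^ 2 = (Nat.card A : ℝ) := by
        unfold ind
        rw [Nat.card_eq_fintype_card, Fintype.card_subtype, Finset.card_filter]
        push_cast
        refine Finset.sum_congr rfl fun y _ => ?_
        by_cases h1 : y ∈ A <;> simp [h1]
      rw [h3, hAG] at h2
      have h4 := mul_left_cancel₀ hG.ne' h2
      rw [← h4]
      exact Finset.sum_le_sum_of_subset_of_nonneg (Finset.erase_subset _ _) fun _ _ _ => by positivity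

/-- the number of `x` with `x * a` and `x * b` in `A`. -/
theorem card_pair {A : Set G} (hA : Normal A) (a b : G) :
    Nat.card {x : G // x * a ∈ A ∧ x * b ∈ A} = N A (b * a⁻¹) := by
  unfold N
  refine Nat.card_congr ((Equiv.mulLeft a).subtypeEquiv fun x => ?_)
  have h1 : a * x ∈ A ↔ x * a ∈ A := by
    have := hA.iff (x * a) a
    rw [← this]
    have e : a * (x * a) * a⁻¹ = a * x := by group
    rw [e]
  have h2 : b * a⁻¹ * (a * x) ∈ A ↔ x * b ∈ A := by
    have := hA.iff (x * b) b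
    rw [← this]
    have e : b * (x * b) * b⁻¹ = b * a⁻¹ * (a * x) := by group
    rw [e]
  rw [Equiv.coe_mulLeft, h1, h2]
  exact and_comm

/-- `N A t` in terms of characters. -/
theorem N_eq [Fintype (IrrCharacter G)] {A : Set G} (hA : Normal A) (t : G) :
    (N A t : ℝ) = Nat.card G * ∑ χ : IrrCharacter G,
      ‖classInner (ind A) (χ : G → ℂ)‖ ^ 2 * ((χ : G → ℂ) t / (χ : G → ℂ) 1).re := by
  have hc := corr_eq (ind_class hA) t
  rw [corr_ind] at hc
  have hre := congrArg Complex.re hc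
  rw [Complex.natCast_re] at hre
  rw [hre, ← Complex.ofReal_natCast, Complex.re_ofReal_mul, Complex.re_sum]
  congr 1
  refine Finset.sum_congr rfl fun χ _ => ?_
  rw [Complex.re_ofReal_mul]

theorem sum_ind_sq (A : Set G) : ∑ y, ‖ind A y‖ ^ 2 = (Nat.card A : ℝ) := by
  classical
  unfold ind
  rw [Nat.card_eq_fintype_card, Fintype.card_subtype, Finset.card_filter]
  push_cast
  refine Finset.sum_congr rfl fun y _ => ?_
  by_cases h1 : y ∈ A <;> simp [h1]

/-- **Coset lemma, most general form**: families `u ω : ι → G` indexed by `ω : Ω`. -/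
theorem sum_card_miss_mul_le {A : Set G} (hA : Normal A) {Ω ι : Type*} [Fintype Ω] [Fintype ι] (u : Ω → ι → G)
    {B : ℝ} (hB0 : 0 ≤ B)
    (hB : ∀ χ : G → ℂ, IsIrrCharacter G χ → χ ≠ 1 → ∑ ω, ∑ i, ∑ j, (χ (u ω j * (u ω i)⁻¹) / χ 1).re ≤ B) :
    (∑ ω, (Nat.card {x : G // ∀ i, x * u ω i ∉ A} : ℝ)) * (dens A * (Fintype.card ι : ℝ) ^ 2) ≤ Nat.card G * B := by
  classical
  have := Core.finite_irr (G := G)
  have := Fintype.ofFinite (IrrCharacter G)
  set m : ℝ := (Fintype.card ι : ℝ) * dens A with hm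
  have hG : (0 : ℝ) < Nat.card G := by exact_mod_cast Nat.card_pos
  have hdens : 0 ≤ dens A := by unfold dens; positivity
  have hAG : (Nat.card A : ℝ) = Nat.card G * dens A := by
    unfold dens
    field_simp
  -- indicator variables
  let I : G → G → ℝ := fun x g => if x * g ∈ A then 1 else 0
  have hI1 : ∀ g, ∑ x, I x g = Nat.card G * dens A := by
    intro g
    rw [← hAG]
    have e : Nat.card A = Nat.card {x : G // x * g ∈ A} :=
      Nat.card_congr ((Equiv.mulRight g).subtypeEquiv fun x => by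
        rw [Equiv.coe_mulRight]) |>.symm
    rw [e, Nat.card_eq_fintype_card, Fintype.card_subtype, Finset.card_filter]
    push_cast
    rfl
  have hI2 : ∀ g h, ∑ x, I x g * I x h = (N A (h * g⁻¹) : ℝ) := by
    intro g h
    rw [← card_pair hA, Nat.card_eq_fintype_card, Fintype.card_subtype, Finset.card_filter]
    push_cast
    refine Finset.sum_congr rfl fun x _ => ?_
    by_cases h1 : x * g ∈ A <;> by_cases h2 : x * h ∈ A <;> simp [I, h1, h2]
  have hvar : ∀ ω, ∑ x, (∑ i, I x (u ω i) - m) ^ 2 =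
      ∑ i, ∑ j, (N A (u ω j * (u ω i)⁻¹) : ℝ) - Nat.card G * m ^ 2 := by
    intro ω
    have e1 : ∀ x, (∑ i, I x (u ω i) - m) ^ 2 =
        ∑ i, ∑ j, I x (u ω i) * I x (u ω j) - 2 * m * ∑ i, I x (u ω i) + m ^ 2 := by
      intro x
      have : ∑ i, ∑ j, I x (u ω i) * I x (u ω j) = (∑ i, I x (u ω i)) ^ 2 := by
        rw [pow_two, Finset.sum_mul_sum]
      rw [this]
      ring
    simp only [e1]
    rw [Finset.sum_add_distrib, Finset.sum_sub_distrib, ← Finset.mul_sum,
      Finset.sum_comm (f := fun x i => I x (u ω i))]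
    simp only [hI1]
    rw [Finset.sum_comm]
    have e2 : ∑ i, ∑ x, ∑ j, I x (u ω i) * I x (u ω j) = ∑ i, ∑ j, (N A (u ω j * (u ω i)⁻¹) : ℝ) := by
      refine Finset.sum_congr rfl fun i _ => ?_
      rw [Finset.sum_comm]
      exact Finset.sum_congr rfl fun j _ => hI2 _ _
    rw [e2]
    simp only [Finset.sum_const, Finset.card_univ, nsmul_eq_mul]
    rw [← Nat.card_eq_fintype_card (α := G), hm]
    ring
  have hub : ∑ ω, ∑ i, ∑ j, (N A (u ω j * (u ω i)⁻¹) : ℝ) ≤
      Nat.card G * (Fintype.card Ω * m ^ 2) + Nat.card G * (dens A * B) := by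
    have e1 : ∑ ω, ∑ i, ∑ j, (N A (u ω j * (u ω i)⁻¹) : ℝ) = Nat.card G * ∑ χ : IrrCharacter G,
        ‖classInner (ind A) (χ : G → ℂ)‖ ^ 2 *
          ∑ ω, ∑ i, ∑ j, ((χ : G → ℂ) (u ω j * (u ω i)⁻¹) / (χ : G → ℂ) 1).re := by
      simp only [N_eq hA]
      simp only [Finset.mul_sum]
      rw [Finset.sum_comm' (s := Finset.univ (α := IrrCharacter G)) (t := fun _ => Finset.univ (α := Ω))
        (t' := Finset.univ) (s' := fun _ => Finset.univ) (by simp)]
      refine Finset.sum_congr rfl fun ω _ => ?_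
      rw [Finset.sum_comm' (s := Finset.univ (α := IrrCharacter G)) (t := fun _ => Finset.univ (α := ι))
        (t' := Finset.univ) (s' := fun _ => Finset.univ) (by simp)]
      refine Finset.sum_congr rfl fun i _ => ?_
      rw [Finset.sum_comm' (s := Finset.univ (α := IrrCharacter G)) (t := fun _ => Finset.univ (α := ι))
        (t' := Finset.univ) (s' := fun _ => Finset.univ) (by simp)]
    rw [e1, ← mul_add]
    refine mul_le_mul_of_nonneg_left ?_ hG.le
    set one : IrrCharacter G := ⟨1, Core.isIrr_one⟩ with hone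
    rw [← Finset.add_sum_erase _ _ (Finset.mem_univ one)]
    refine add_le_add (le_of_eq ?_) ?_
    · have e2 : classInner (ind A) (one : G → ℂ) = (Nat.card A : ℂ) / Nat.card G := inner_one A
      rw [e2]
      have e3 : ∀ t, ((one : G → ℂ) t / (one : G → ℂ) 1).re = 1 := by
        intro t
        simp [hone]
      simp only [e3, Finset.sum_const, Finset.card_univ, nsmul_eq_mul, mul_one]
      rw [norm_div, Complex.norm_natCast, Complex.norm_natCast, hm]
      unfold dens
      ring
    · have h1 : ∀ χ ∈ Finset.univ.erase one, ‖classInner (ind A) (χ : G → ℂ)‖ ^ 2 *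
          ∑ ω, ∑ i, ∑ j, ((χ : G → ℂ) (u ω j * (u ω i)⁻¹) / (χ : G → ℂ) 1).re
          ≤ ‖classInner (ind A) (χ : G → ℂ)‖ ^ 2 * B := by
        intro χ hχ
        refine mul_le_mul_of_nonneg_left (hB _ χ.2 ?_) (by positivity)
        intro h3
        exact (Finset.mem_erase.1 hχ).1 (Subtype.ext h3)
      refine (Finset.sum_le_sum h1).trans ?_
      rw [← Finset.sum_mul]
      refine mul_le_mul_of_nonneg_right ?_ hB0
      have h2 := sum_inner_sq (ind_class hA)
      rw [sum_ind_sq, hAG] at h2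
      have h4 := mul_left_cancel₀ hG.ne' h2
      rw [← h4]
      exact Finset.sum_le_sum_of_subset_of_nonneg (Finset.erase_subset _ _) fun _ _ _ => by positivity
  have hlb : ∀ ω, (Nat.card {x : G // ∀ i, x * u ω i ∉ A} : ℝ) * m ^ 2 ≤ ∑ x, (∑ i, I x (u ω i) - m) ^ 2 := by
    intro ω
    rw [Nat.card_eq_fintype_card, Fintype.card_subtype, ← nsmul_eq_mul, ← Finset.sum_const]
    refine (Finset.sum_le_sum fun x hx => ?_).trans
      (Finset.sum_le_sum_of_subset_of_nonneg (Finset.subset_univ _) fun _ _ _ => sq_nonneg _)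
    rw [Finset.mem_filter] at hx
    have : ∀ i, I x (u ω i) = 0 := fun i => if_neg (hx.2 i)
    simp [this]
  have h1 : (∑ ω, (Nat.card {x : G // ∀ i, x * u ω i ∉ A} : ℝ)) * m ^ 2 ≤ Nat.card G * (dens A * B) := by
    rw [Finset.sum_mul]
    refine (Finset.sum_le_sum fun ω _ => (hlb ω).trans (hvar ω).le).trans ?_
    rw [Finset.sum_sub_distrib, Finset.sum_const, Finset.card_univ, nsmul_eq_mul]
    linarith [hub]
  rcases hdens.eq_or_lt with h0 | hpos
  · rw [← h0, zero_mul, mul_zero]
    exact mul_nonneg hG.le hB0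
  · have e : (∑ ω, (Nat.card {x : G // ∀ i, x * u ω i ∉ A} : ℝ)) * m ^ 2 =
        dens A * ((∑ ω, (Nat.card {x : G // ∀ i, x * u ω i ∉ A} : ℝ)) * (dens A * (Fintype.card ι : ℝ) ^ 2)) := by
      rw [hm]
      ring
    have e' : (Nat.card G : ℝ) * (dens A * B) = dens A * (Nat.card G * B) := by ring
    rw [e, e'] at h1
    exact le_of_mul_le_mul_left h1 hpos

/-- **Coset lemma for a subgroup** `Y`: `P(x Y misses A) ≤ β / α` if `∑_{t ∈ Y} χ(t) ≤ β |Y| χ(1)` for all `χ ≠ 1`. -/
theorem card_miss_subgroup_le {A : Set G} (hA : Normal A) (Y : Subgroup G) [Fintype Y] {β : ℝ} (hβ0 : 0 ≤ β)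
    (hβ : ∀ χ : G → ℂ, IsIrrCharacter G χ → χ ≠ 1 → ∑ t : Y, (χ (t : G) / χ 1).re ≤ β * Fintype.card Y) :
    (Nat.card {x : G // ∀ t ∈ Y, x * t ∉ A} : ℝ) * dens A ≤ Nat.card G * β := by
  classical
  have hY : (0 : ℝ) < Fintype.card Y := by exact_mod_cast Fintype.card_pos
  have h := sum_card_miss_mul_le hA (Ω := Unit) (ι := Y) (fun _ t => (t : G)) (B := β * (Fintype.card Y : ℝ) ^ 2)
    (by positivity) (fun χ hχ hne => by
      rw [Fintype.sum_unique]
      have e : ∀ i : Y, ∑ j : Y, (χ ((j : G) * (i : G)⁻¹) / χ 1).re = ∑ t : Y, (χ (t : G) / χ 1).re := by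
        intro i
        exact Fintype.sum_equiv (Equiv.mulRight i⁻¹) _ _ fun j => by
          rw [Equiv.coe_mulRight, Subgroup.coe_mul, Subgroup.coe_inv]
      simp only [e]
      rw [Finset.sum_const, Finset.card_univ, nsmul_eq_mul]
      have := hβ χ hχ hne
      nlinarith)
  rw [Fintype.sum_unique] at h
  have e1 : Nat.card {x : G // ∀ i : Y, x * (i : G) ∉ A} = Nat.card {x : G // ∀ t ∈ Y, x * t ∉ A} :=
    Nat.card_congr (Equiv.subtypeEquivRight fun x => ⟨fun h t ht => h ⟨t, ht⟩, fun h i => h i i.2⟩)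
  rw [e1] at h
  have e2 : (Nat.card {x : G // ∀ t ∈ Y, x * t ∉ A} : ℝ) * (dens A * (Fintype.card Y : ℝ) ^ 2) =
      ((Nat.card {x : G // ∀ t ∈ Y, x * t ∉ A} : ℝ) * dens A) * (Fintype.card Y : ℝ) ^ 2 := by ring
  have e3 : (Nat.card G : ℝ) * (β * (Fintype.card Y : ℝ) ^ 2) = (Nat.card G * β) * (Fintype.card Y : ℝ) ^ 2 := by ring
  rw [e2, e3] at h
  exact le_of_mul_le_mul_right h (by positivity)

/-- **Coset lemma, general form.** -/
theorem card_miss_mul_le (hperf : commutator G = ⊤) {A : Set G} (hA : Normal A) {d : ℕ} (hd0 : 0 < d)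
    (hd : MinDeg G d) {ι : Type*} [Fintype ι] (u : ι → G) :
    (Nat.card {x : G // ∀ i, x * u i ∉ A} : ℝ) * (dens A * (Fintype.card ι : ℝ) ^ 2) ≤
      Nat.card G * ∑ i, ∑ j, disc d (u j * (u i)⁻¹) := by
  classical
  set m : ℝ := (Fintype.card ι : ℝ) * dens A with hm
  have hG : (0 : ℝ) < Nat.card G := by exact_mod_cast Nat.card_pos
  have hdens : 0 ≤ dens A := by unfold dens; positivity
  have hAG : (Nat.card A : ℝ) = Nat.card G * dens A := by
    unfold dens
    field_simp
  -- indicator variables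
  let I : G → ι → ℝ := fun x i => if x * u i ∈ A then 1 else 0
  have hI1 : ∀ i, ∑ x, I x i = Nat.card G * dens A := by
    intro i
    rw [← hAG]
    have e : Nat.card A = Nat.card {x : G // x * u i ∈ A} :=
      Nat.card_congr ((Equiv.mulRight (u i)).subtypeEquiv fun x => by
        rw [Equiv.coe_mulRight]) |>.symm
    rw [e, Nat.card_eq_fintype_card, Fintype.card_subtype, Finset.card_filter]
    push_cast
    rfl
  have hI2 : ∀ i j, ∑ x, I x i * I x j = (N A (u j * (u i)⁻¹) : ℝ) := by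
    intro i j
    rw [← card_pair hA, Nat.card_eq_fintype_card, Fintype.card_subtype, Finset.card_filter]
    push_cast
    refine Finset.sum_congr rfl fun x _ => ?_
    by_cases h1 : x * u i ∈ A <;> by_cases h2 : x * u j ∈ A <;> simp [I, h1, h2]
  have hvar : ∑ x, (∑ i, I x i - m) ^ 2 = ∑ i, ∑ j, (N A (u j * (u i)⁻¹) : ℝ) - Nat.card G * m ^ 2 := by
    have e1 : ∀ x, (∑ i, I x i - m) ^ 2 = ∑ i, ∑ j, I x i * I x j - 2 * m * ∑ i, I x i + m ^ 2 := by
      intro x
      have : ∑ i, ∑ j, I x i * I x j = (∑ i, I x i) ^ 2 := by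
        rw [pow_two, Finset.sum_mul_sum]
      rw [this]
      ring
    simp only [e1]
    rw [Finset.sum_add_distrib, Finset.sum_sub_distrib, ← Finset.mul_sum, Finset.sum_comm (f := fun x i => I x i)]
    simp only [hI1]
    rw [Finset.sum_comm]
    have e2 : ∑ i, ∑ x, ∑ j, I x i * I x j = ∑ i, ∑ j, (N A (u j * (u i)⁻¹) : ℝ) := by
      refine Finset.sum_congr rfl fun i _ => ?_
      rw [Finset.sum_comm]
      exact Finset.sum_congr rfl fun j _ => hI2 i j
    rw [e2]
    simp only [Finset.sum_const, Finset.card_univ, nsmul_eq_mul]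
    rw [← Nat.card_eq_fintype_card (α := G), hm]
    ring
  have hub : ∑ i, ∑ j, (N A (u j * (u i)⁻¹) : ℝ) - Nat.card G * m ^ 2 ≤
      Nat.card G * dens A * ∑ i, ∑ j, disc d (u j * (u i)⁻¹) := by
    have e1 : ∑ i, ∑ j, (N A (u j * (u i)⁻¹) : ℝ) ≤
        ∑ i : ι, ∑ j : ι, (Nat.card G : ℝ) * (dens A ^ 2 + dens A * disc d (u j * (u i)⁻¹)) :=
      Finset.sum_le_sum fun i _ => Finset.sum_le_sum fun j _ => N_bound hperf hA hd0 hd _
    refine (sub_le_sub_right e1 _).trans (le_of_eq ?_)
    simp only [← Finset.mul_sum, Finset.sum_add_distrib, Finset.sum_const, Finset.card_univ, nsmul_eq_mul]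
    rw [hm]
    ring
  have hlb : (Nat.card {x : G // ∀ i, x * u i ∉ A} : ℝ) * m ^ 2 ≤ ∑ x, (∑ i, I x i - m) ^ 2 := by
    rw [Nat.card_eq_fintype_card, Fintype.card_subtype, ← nsmul_eq_mul, ← Finset.sum_const]
    refine (Finset.sum_le_sum fun x hx => ?_).trans
      (Finset.sum_le_sum_of_subset_of_nonneg (Finset.subset_univ _) fun _ _ _ => sq_nonneg _)
    rw [Finset.mem_filter] at hx
    have : ∀ i, I x i = 0 := fun i => if_neg (hx.2 i)
    simp [this]
  have h1 := hlb.trans (hvar.le.trans hub)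
  rcases hdens.eq_or_lt with h0 | hpos
  · rw [← h0, zero_mul, mul_zero]
    refine mul_nonneg hG.le (Finset.sum_nonneg fun i _ => Finset.sum_nonneg fun j _ => ?_)
    unfold disc
    positivity
  · have e : (Nat.card {x : G // ∀ i, x * u i ∉ A} : ℝ) * m ^ 2 =
        dens A * ((Nat.card {x : G // ∀ i, x * u i ∉ A} : ℝ) * (dens A * (Fintype.card ι : ℝ) ^ 2)) := by
      rw [hm]
      ring
    rw [e, mul_comm (Nat.card G : ℝ), mul_assoc] at h1
    exact le_of_mul_le_mul_left h1 hpos

theorem card_centralizer_inv (t : G) : Nat.card (centralizer ({t⁻¹} : Set G)) = Nat.card (centralizer ({t} : Set G)) := by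
  congr 2
  ext x
  simp only [mem_centralizer_singleton_iff]
  constructor
  · intro h
    have := congrArg (fun z => t * z * t) h
    simpa [mul_assoc] using this.symm
  · intro h
    have := congrArg (fun z => t⁻¹ * z * t⁻¹) h
    simpa [mul_assoc] using this.symm

theorem disc_le_one (d : ℕ) (t : G) : disc d t ≤ 1 := min_le_left _ _

theorem disc_inv (d : ℕ) (t : G) : disc d t⁻¹ = disc d t := by
  unfold disc
  rw [card_centralizer_inv]

/-- **Coset lemma for powers.** -/
theorem card_miss_le (hperf : commutator G = ⊤) {A : Set G} (hA : Normal A) (hne : A.Nonempty) {d : ℕ} (hd0 : 0 < d)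
    (hd : MinDeg G d) {y : G} {K : ℕ} (hK : 0 < K) {η : ℝ} (hη : 0 ≤ η)
    (hy : ∀ j, 0 < j → j < K → √(Nat.card (centralizer ({y ^ j} : Set G)) : ℝ) ≤ η * d) :
    (Nat.card {x : G // ∀ i < K, x * y ^ i ∉ A} : ℝ) ≤ Nat.card G * (1 / (K * dens A) + η / dens A) := by
  classical
  have hG : (0 : ℝ) < Nat.card G := by exact_mod_cast Nat.card_pos
  have hd0' : (0 : ℝ) < d := by exact_mod_cast hd0
  have hK' : (0 : ℝ) < K := by exact_mod_cast hK
  have hdens : 0 < dens A := by
    unfold dens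
    have : Nonempty A := hne.to_subtype
    have : (0 : ℝ) < Nat.card A := by exact_mod_cast Nat.card_pos
    positivity
  have h := card_miss_mul_le hperf hA hd0 hd (fun i : Fin K => y ^ (i : ℕ))
  have e1 : Nat.card {x : G // ∀ i : Fin K, x * y ^ (i : ℕ) ∉ A} = Nat.card {x : G // ∀ i < K, x * y ^ i ∉ A} :=
    Nat.card_congr (Equiv.subtypeEquivRight fun x => ⟨fun h i hi => h ⟨i, hi⟩, fun h i => h i i.2⟩)
  rw [e1, Fintype.card_fin] at h
  have h2 : ∀ i j : Fin K, disc d (y ^ (j : ℕ) * (y ^ (i : ℕ))⁻¹) ≤ (if i = j then 1 else 0) + η := by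
    intro i j
    split_ifs with hij
    · exact (disc_le_one _ _).trans (by linarith)
    · rw [zero_add]
      have hne' : (i : ℕ) ≠ j := fun h => hij (Fin.ext h)
      rcases lt_or_gt_of_ne hne' with h3 | h3
      · have e : y ^ (j : ℕ) * (y ^ (i : ℕ))⁻¹ = y ^ ((j : ℕ) - i) := by
          rw [pow_sub _ h3.le]
        rw [e]
        unfold disc
        refine (min_le_right _ _).trans ?_
        rw [div_le_iff₀ hd0']
        exact hy _ (by omega) (by omega)
      · have e : y ^ (j : ℕ) * (y ^ (i : ℕ))⁻¹ = (y ^ ((i : ℕ) - j))⁻¹ := by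
          rw [pow_sub _ h3.le, mul_inv_rev, inv_inv]
        rw [e, disc_inv]
        unfold disc
        refine (min_le_right _ _).trans ?_
        rw [div_le_iff₀ hd0']
        exact hy _ (by omega) (by omega)
  have h3 : ∑ i : Fin K, ∑ j : Fin K, disc d (y ^ (j : ℕ) * (y ^ (i : ℕ))⁻¹) ≤ K + K ^ 2 * η := by
    refine (Finset.sum_le_sum fun i _ => Finset.sum_le_sum fun j _ => h2 i j).trans (le_of_eq ?_)
    simp only [Finset.sum_add_distrib, Finset.sum_ite_eq, Finset.mem_univ, if_true, Finset.sum_const,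
      Finset.card_univ, Fintype.card_fin, nsmul_eq_mul]
    ring
  have h4 : (Nat.card {x : G // ∀ i < K, x * y ^ i ∉ A} : ℝ) * (dens A * K ^ 2) ≤ Nat.card G * (K + K ^ 2 * η) :=
    h.trans (mul_le_mul_of_nonneg_left h3 hG.le)
  have h5 : 0 < dens A * (K : ℝ) ^ 2 := by positivity
  rw [← le_div_iff₀ h5] at h4
  refine h4.trans (le_of_eq ?_)
  field_simp

end Count

end Cfsg.Agent.H262.Rg.Engine
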