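import Mathlib
import Cfsg.Agent.H262.Rg.Bridge
import Cfsg.Agent.H141.Rg.Defs

/-!
# Random generation (S5714): the assembly from the families `FamNF`, `FamP`

* `engine_rat` : the engine with the ratios at the powers of almost every `y`;
* `rowG_of_p` : `CovRow P → FamP P → RowG P`;
* `covRow_of_nf` : `FamNF P → CovRow P`;
* `rowG_iff_gen` : `RowG P ↔ FamGen P`.
-/

set_option autoImplicit false
set_option linter.unusedSectionVars false

namespace Cfsg.Agent.H262.Rg.Fam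

open Cfsg Cfsg.Agent.Characters Cfsg.Agent.OrdDiv Cfsg.Agent.H436 Subgroup
open Cfsg.Agent.H262.Rg.Engine Cfsg.Agent.H262.Rg.Powers Cfsg.Agent.H262.Rg.Ratio Cfsg.Agent.H262.Rg.Asm
open Cfsg.Agent.H262.Rg.Bridge
open Cfsg.Agent.H178.RG (badP NSet Cov RowG)
open Cfsg.Agent.H141.Rg (Rat CInv NF badN FamNF FamP FamGen gp)
open Cfsg.Agent.H278.El.AltNum (dimOf)

universe u

section One

variable {T : Type u} [Group T] [Fintype T]

theorem re_one {χ : T → ℂ} (hχ : IsIrrCharacter T χ) : (χ 1).re = ‖χ 1‖ := by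
  obtain ⟨n, hn, h1⟩ := Core.isIrr_apply_one hχ
  rw [h1, Complex.norm_natCast, Complex.natCast_re]

/-- the coset lemma for an element whose powers have small ratios -/
theorem card_miss_rat_le {A : Set T} (hA : Normal A) {y : T} {K : ℕ} (hK : 0 < K) {γ : ℝ} (hγ0 : 0 ≤ γ)
    (hy : ∀ m, 0 < m → m < K → Rat γ (y ^ m)) :
    (Nat.card {x : T // ∀ i < K, x * y ^ i ∉ A} : ℝ) * dens A ≤ Nat.card T * (1 / K + γ) := by
  classical
  have hG : (0 : ℝ) < Nat.card T := by exact_mod_cast Nat.card_pos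
  have hK' : (0 : ℝ) < K := by exact_mod_cast hK
  have hkey : ∀ χ : T → ℂ, IsIrrCharacter T χ → χ ≠ 1 → ∀ m, 0 < m → m < K → ‖χ (y ^ m)‖ / ‖χ 1‖ ≤ γ := by
    intro χ hχ hne m hm hmK
    have h1 : 0 < ‖χ 1‖ := norm_pos_iff.2 (Core.isIrr_apply_one_ne_zero hχ)
    rw [div_le_iff₀ h1]
    have h2 := hy m hm hmK χ hχ (by
      by_contra h
      push Not at h
      exact hne (funext h))
    rwa [re_one hχ] at h2
  have h := sum_card_miss_mul_le hA (Ω := Unit) (ι := Fin K) (fun _ i => y ^ (i : ℕ))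
    (B := K + K ^ 2 * γ) (by positivity) (by
      intro χ hχ hne
      rw [Fintype.sum_unique]
      have h2 : ∀ i j : Fin K, (χ (y ^ (j : ℕ) * (y ^ (i : ℕ))⁻¹) / χ 1).re ≤ (if i = j then 1 else 0) + γ := by
        intro i j
        split_ifs with hij
        · subst hij
          rw [mul_inv_cancel, div_self (Core.isIrr_apply_one_ne_zero hχ), Complex.one_re]
          linarith
        · rw [zero_add]
          have hne' : (i : ℕ) ≠ j := fun h => hij (Fin.ext h)
          rcases lt_or_gt_of_ne hne' with h3 | h3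
          · have e : y ^ (j : ℕ) * (y ^ (i : ℕ))⁻¹ = y ^ ((j : ℕ) - i) := by
              rw [pow_sub _ h3.le]
            rw [e]
            refine (Complex.re_le_norm _).trans ?_
            rw [norm_div]
            exact hkey χ hχ hne _ (by omega) (by omega)
          · have e : y ^ (j : ℕ) * (y ^ (i : ℕ))⁻¹ = (y ^ ((i : ℕ) - j))⁻¹ := by
              rw [pow_sub _ h3.le, mul_inv_rev, inv_inv]
            rw [e]
            refine (Complex.re_le_norm _).trans ?_
            rw [norm_div, norm_inv hχ]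
            exact hkey χ hχ hne _ (by omega) (by omega)
      refine (Finset.sum_le_sum fun i _ => Finset.sum_le_sum fun j _ => h2 i j).trans (le_of_eq ?_)
      simp only [Finset.sum_add_distrib, Finset.sum_ite_eq, Finset.mem_univ, if_true, Finset.sum_const,
        Finset.card_univ, Fintype.card_fin, nsmul_eq_mul]
      ring)
  rw [Fintype.sum_unique, Fintype.card_fin] at h
  have e1 : Nat.card {x : T // ∀ i : Fin K, x * y ^ (i : ℕ) ∉ A} = Nat.card {x : T // ∀ i < K, x * y ^ i ∉ A} :=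
    Nat.card_congr (Equiv.subtypeEquivRight fun x => ⟨fun h i hi => h ⟨i, hi⟩, fun h i => h i i.2⟩)
  rw [e1] at h
  have h5 : (0 : ℝ) < (K : ℝ) ^ 2 := by positivity
  have h6 : (Nat.card {x : T // ∀ i < K, x * y ^ i ∉ A} : ℝ) * dens A * (K : ℝ) ^ 2 ≤
      (Nat.card T * (1 / K + γ)) * (K : ℝ) ^ 2 := by
    have e3 : (Nat.card T * (1 / K + γ)) * (K : ℝ) ^ 2 = Nat.card T * (K + K ^ 2 * γ) := by
      field_simp
    rw [e3, mul_assoc]
    exact h
  exact le_of_mul_le_mul_right h6 h5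

/-- **Engine, pointwise ratios.** -/
theorem engine_rat {k F ρ η : ℝ} (hc : Cov T k F ρ) (hF : 0 < F) {K : ℕ} (hK : 0 < K) {γ : ℝ} (hγ0 : 0 ≤ γ)
    (hη : (Nat.card {y : T // ¬ ∀ m, 0 < m → m < K → Rat γ (y ^ m)} : ℝ) ≤ η * Nat.card T) :
    (badP T : ℝ) ≤ (ρ + η + k * (F * (1 / K + γ))) * (Nat.card T : ℝ) ^ 2 := by
  classical
  have hG : (0 : ℝ) < Nat.card T := by exact_mod_cast Nat.card_pos
  have hK' : (0 : ℝ) < K := by exact_mod_cast hK
  refine badP_le (β := F * (1 / K + γ)) hc (by positivity) {y : T | ∀ m, 0 < m → m < K → Rat γ (y ^ m)} hη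
    fun A hA hd => ?_
  set S : Set T := {y : T | ∀ m, 0 < m → m < K → Rat γ (y ^ m)} with hS
  have e1 : Nat.card {p : T × T // p.2 ∈ S ∧ ∀ z ∈ closure {p.1, p.2}, z ∉ A} ≤
      Nat.card (Σ y : S, {x : T // ∀ i < K, x * (y : T) ^ i ∉ A}) := by
    refine Nat.card_le_card_of_injective (fun p => ⟨⟨p.1.2, p.2.1⟩, p.1.1, fun i _ => p.2.2 _ ?_⟩) fun a b h => ?_
    · exact mul_mem (subset_closure (by simp)) (pow_mem (subset_closure (by simp)) i)
    · have h1 : (a.1.2 : T) = b.1.2 := congrArg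
        (fun x : Σ y : S, {x : T // ∀ i < K, x * (y : T) ^ i ∉ A} => (x.1 : T)) h
      have h2 : (a.1.1 : T) = b.1.1 := congrArg
        (fun x : Σ y : S, {x : T // ∀ i < K, x * (y : T) ^ i ∉ A} => x.2.1) h
      exact Subtype.ext (Prod.ext h2 h1)
  have e2 : (Nat.card (Σ y : S, {x : T // ∀ i < K, x * (y : T) ^ i ∉ A}) : ℝ) =
      ∑ y : S, (Nat.card {x : T // ∀ i < K, x * (y : T) ^ i ∉ A} : ℝ) := by
    rw [Nat.card_sigma]
    push_cast
    rfl
  have e3 : ∀ y : S, (Nat.card {x : T // ∀ i < K, x * (y : T) ^ i ∉ A} : ℝ) ≤ Nat.card T * (F * (1 / K + γ)) := by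
    intro y
    have h1 := card_miss_rat_le hA hK hγ0 y.2
    have h4 := (mul_le_mul_of_nonneg_left (inv_le_dens hF hd) (Nat.cast_nonneg _)).trans h1
    rw [mul_one_div, div_le_iff₀ hF] at h4
    linarith
  have e4 : (Nat.card {p : T × T // p.2 ∈ S ∧ ∀ z ∈ closure {p.1, p.2}, z ∉ A} : ℝ) ≤
      (Nat.card (Σ y : S, {x : T // ∀ i < K, x * (y : T) ^ i ∉ A}) : ℝ) := by exact_mod_cast e1
  refine e4.trans ?_
  rw [e2]
  refine (Finset.sum_le_sum fun y _ => e3 y).trans ?_
  rw [Finset.sum_const, nsmul_eq_mul, pow_two]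
  have h5 : ((Finset.univ : Finset S).card : ℝ) ≤ Nat.card T := by
    rw [Finset.card_univ, Nat.card_eq_fintype_card]
    exact_mod_cast Fintype.card_le_of_injective _ Subtype.val_injective
  have h6 : (0 : ℝ) ≤ F * (1 / K + γ) * Nat.card T := by positivity
  nlinarith

end One

/-- the two logarithms -/
theorem log_le (T : Type u) : H141.Rg.lg T ≤ Asm.lg T + 1 := by
  unfold H141.Rg.lg Asm.lg
  rcases Nat.eq_zero_or_pos (Nat.card T) with h | h
  · rw [h]
    simp
  · have h1 : Nat.card T < 2 ^ (Nat.log 2 (Nat.card T) + 1) := Nat.lt_pow_succ_log_self (by norm_num) _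
    have h2 : (Nat.card T : ℝ) ≤ 2 ^ (Nat.log 2 (Nat.card T) + 1) := by exact_mod_cast h1.le
    have h3 := Real.log_le_log (by exact_mod_cast h) h2
    rw [Real.log_pow] at h3
    have h4 : Real.log 2 ≤ 1 := by
      have := Real.log_two_lt_d9
      linarith
    refine h3.trans ?_
    push_cast
    have h5 : (0 : ℝ) ≤ (Nat.log 2 (Nat.card T) : ℝ) + 1 := by positivity
    nlinarith

theorem le_log (T : Type u) : (Asm.lg T : ℝ) / 2 ≤ H141.Rg.lg T := by
  unfold H141.Rg.lg Asm.lg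
  rcases Nat.eq_zero_or_pos (Nat.card T) with h | h
  · rw [h]
    simp
  · have h1 : 2 ^ (Nat.log 2 (Nat.card T)) ≤ Nat.card T := Nat.pow_log_le_self _ (by omega)
    have h2 : ((2 : ℝ) ^ (Nat.log 2 (Nat.card T))) ≤ Nat.card T := by exact_mod_cast h1
    have h3 := Real.log_le_log (by positivity) h2
    rw [Real.log_pow] at h3
    have h4 : (1 : ℝ) / 2 ≤ Real.log 2 := by
      have := Real.log_two_gt_d9
      linarith
    refine le_trans ?_ h3
    have h5 : (0 : ℝ) ≤ (Nat.log 2 (Nat.card T) : ℝ) := by positivity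
    nlinarith

/-- **`FamNF` gives coverings.** -/
theorem covRow_of_nf {P : Grp → Prop} (h : FamNF P) : CovRow P := by
  obtain ⟨C, D, hC, h⟩ := h
  obtain ⟨c, hc1, hc⟩ := exists_nat_pow_two (2 * C)
  refine ⟨c, by omega, fun ρ hρ => ⟨D + 2, fun g T _ _ _ hT hg hD => ?_⟩⟩
  obtain ⟨n, hn, E, h1, h2, h3⟩ := h g T hT hg (by omega)
  have hL : 1 ≤ Asm.lg T := le_lg (by omega)
  have hL' : (1 : ℝ) ≤ Asm.lg T := by exact_mod_cast hL
  have hlog := log_le T
  have hCl : C * H141.Rg.lg T ≤ (c : ℝ) * (Asm.lg T : ℝ) ^ c := by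
    have h4 : (Asm.lg T : ℝ) ≤ (Asm.lg T : ℝ) ^ c := le_self_pow₀ hL' (by omega)
    have h5 : C * H141.Rg.lg T ≤ C * (2 * Asm.lg T) := mul_le_mul_of_nonneg_left (by linarith) hC.le
    have h6 : C * (2 * (Asm.lg T : ℝ)) = 2 * C * Asm.lg T := by ring
    rw [h6] at h5
    refine h5.trans ?_
    exact mul_le_mul hc h4 (by positivity) (by positivity)
  classical
  refine ⟨Finset.univ.image E, ∅, ?_, ?_, ?_, ?_⟩
  · have h4 : (Finset.univ.image E).card ≤ n := by
      refine Finset.card_image_le.trans ?_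
      rw [Finset.card_univ, Fintype.card_fin]
    have h5 : ((Finset.univ.image E).card : ℝ) ≤ n := by exact_mod_cast h4
    exact h5.trans (hn.trans hCl)
  · have h0 : Nat.card (∅ : Set (T × T)) = 0 := by simp
    rw [h0, Nat.cast_zero]
    positivity
  · intro A hA
    obtain ⟨i, -, rfl⟩ := Finset.mem_image.1 hA
    exact ⟨fun g a ha => h1 i a ha g, (h2 i).trans (mul_le_mul_of_nonneg_right hCl (Nat.cast_nonneg _))⟩
  · intro M hM
    obtain ⟨i, hi⟩ := h3 M hM.1
    exact Or.inl ⟨E i, Finset.mem_image_of_mem _ (Finset.mem_univ _), hi⟩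

/-- **A row of `RowG` from `CovRow` and `FamP`.** -/
theorem rowG_of_p {P : Grp → Prop} (hS : CovRow P) (hP : FamP P) : RowG P := by
  intro ε hε
  obtain ⟨C, hC, hD⟩ := hS
  obtain ⟨D, hD⟩ := hD (ε / 4) (by positivity)
  obtain ⟨D', hD'⟩ := hP (2 * C + 2) (ε / 4) (by positivity)
  obtain ⟨k, hk1, hk⟩ := const_le C (ε := ε / 4) (by positivity)
  obtain ⟨k', hk1', hk'⟩ := exists_nat_pow_two ((2 : ℝ) ^ (2 * C + 2))
  refine ⟨D + D' + 2 ^ (k + k'), fun g T _ _ _ hT hg h => ?_⟩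
  have := Fintype.ofFinite T
  have hk2 : 0 < 2 ^ (k + k') := by positivity
  have h1 := hD g T hT hg (by omega)
  have h2 := hD' g T hT hg (by omega)
  have h3 : k + k' ≤ Asm.lg T := le_lg (by omega)
  set L := Asm.lg T with hL
  have hL0 : 0 < L := by omega
  have hC' : (0 : ℝ) < C := by exact_mod_cast hC
  have hL0' : (0 : ℝ) < L := by exact_mod_cast hL0
  have hl := le_log T
  rw [← hL] at hl
  set l := H141.Rg.lg T with hlog
  have hl0 : 0 < l := by linarith
  -- `L ^ (2 C + 1) ≤ l ^ (2 C + 2)`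
  have h4 : (L : ℝ) ^ (2 * C + 1) ≤ l ^ (2 * C + 2) := by
    have e1 : ((L : ℝ) / 2) ^ (2 * C + 2) ≤ l ^ (2 * C + 2) := pow_le_pow_left₀ (by positivity) hl _
    refine le_trans ?_ e1
    rw [div_pow, le_div_iff₀ (by positivity), pow_succ (L : ℝ) (2 * C + 1)]
    refine mul_le_mul_of_nonneg_left ?_ (by positivity)
    exact hk'.trans (by exact_mod_cast (show k' ≤ L by omega))
  have hη : (Nat.card {y : T // ¬ ∀ m, 0 < m → m < L ^ (2 * C + 1) → Rat (1 / (L : ℝ) ^ (2 * C + 1)) (y ^ m)} : ℝ) ≤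
      ε / 4 * Nat.card T := by
    refine le_trans ?_ h2
    unfold H141.Rg.badN
    have : Nat.card {y : T // ¬ ∀ m, 0 < m → m < L ^ (2 * C + 1) → Rat (1 / (L : ℝ) ^ (2 * C + 1)) (y ^ m)} ≤
        Nat.card {y : T // ∃ m : ℕ, 1 ≤ m ∧ (m : ℝ) ≤ l ^ (2 * C + 2) ∧ ¬ Rat ((l ^ (2 * C + 2))⁻¹) (y ^ m)} := by
      refine Nat.card_le_card_of_injective (fun y => ⟨y.1, ?_⟩) fun a b h => Subtype.ext (congrArg (fun x => x.1) h)
      obtain ⟨y, hy⟩ := y
      push Not at hy
      obtain ⟨m, hm, hmK, hr⟩ := hy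
      refine ⟨m, hm, ?_, fun hrat => hr ?_⟩
      · refine le_trans ?_ h4
        exact_mod_cast hmK.le
      · intro χ hχ hne
        refine (hrat χ hχ hne).trans (mul_le_mul_of_nonneg_right ?_ ?_)
        · rw [one_div]
          exact inv_anti₀ (by positivity) h4
        · rw [re_one hχ]
          exact norm_nonneg _
    exact_mod_cast this
  have h5 := engine_rat (K := L ^ (2 * C + 1)) h1 (by positivity) (by positivity) (by positivity) hη
  refine h5.trans ?_
  refine mul_le_mul_of_nonneg_right ?_ (by positivity)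
  have h6 := hk L (by omega)
  push_cast
  have e : (C : ℝ) * (L : ℝ) ^ C * ((C : ℝ) * (L : ℝ) ^ C * (1 / (L : ℝ) ^ (2 * C + 1) + 1 / (L : ℝ) ^ (2 * C + 1))) =
      2 * ((C : ℝ) * (L : ℝ) ^ C * ((C : ℝ) * (L : ℝ) ^ C * (1 / (L : ℝ) ^ (2 * C + 1)))) := by ring
  rw [e]
  linarith

/-- generating pairs and the others -/
theorem gp_add (T : Type u) [Group T] [Finite T] : (gp T : ℝ) + badP T = (Nat.card T : ℝ) ^ 2 := by
  classical
  have h3 : gp T + badP T = Nat.card T * Nat.card T := by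
    rw [← Nat.card_prod]
    unfold gp H178.RG.badP
    rw [← Nat.card_sum]
    exact Nat.card_congr (Equiv.sumCompl fun xy : T × T => closure {xy.1, xy.2} = ⊤)
  rw [pow_two]
  exact_mod_cast h3

theorem rowG_iff_gen (P : Grp → Prop) : RowG P ↔ FamGen P := by
  constructor
  · intro h ε hε
    obtain ⟨D, hD⟩ := h ε hε
    refine ⟨D, fun g T _ _ _ hT hg hc => ?_⟩
    have h1 := hD g T hT hg hc
    have h2 := gp_add T
    linarith
  · intro h ε hε
    obtain ⟨D, hD⟩ := h ε hε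
    refine ⟨D, fun g T _ _ _ hT hg hc => ?_⟩
    have h1 := hD g T hT hg hc
    have h2 := gp_add T
    linarith

theorem RowG.or' {P Q : Grp → Prop} (hP : RowG P) (hQ : RowG Q) : RowG fun g => P g ∨ Q g :=
  (famG_iff _).1 (((famG_iff _).2 hP).or ((famG_iff _).2 hQ))

theorem RowG.mono' {P Q : Grp → Prop} (hQ : RowG Q) (h : ∀ g, P g → Q g) : RowG P :=
  (famG_iff _).1 (((famG_iff _).2 hQ).mono h)

/-- bounded order -/
theorem rowG_of_card_le {P : Grp → Prop} (B : ℕ) (h : ∀ g, P g → num g ≤ B) : RowG P :=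
  (famG_iff _).1 (famG_of_card_le B h)

end Cfsg.Agent.H262.Rg.Fam
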