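import Mathlib
import Cfsg.Agent.H262.Rg.Engine

/-!
# Random generation (S5714): averaging the coset lemma over `y` (bounded rank)

`pairs_miss_le`: the number of pairs `(x, y)` such that no `x * y ^ i`, `i < K`, lies in the normal subset `A` is at most
`|G|² (1/K + √a / d + P) / α`, where `S m` (`0 < m < K`) is a set of elements `y` with `|{y ∈ S m : y ^ m = z}| ≤ a` for
all `z`, whose complement has density at most `P`, and `MinDeg G d`.

`fib_le`: the fibre condition when `C(y ^ m)` is commutative and has at most `a` elements `t` with `t ^ m = 1`.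
-/

set_option autoImplicit false
set_option linter.unusedSectionVars false

namespace Cfsg.Agent.H262.Rg.Powers

open Cfsg Cfsg.Agent.Characters Cfsg.Agent.H686.CharKit Cfsg.Agent.H514.DP Subgroup
open Cfsg.Agent.H262.Rg.Engine
open scoped ComplexConjugate

universe u

variable {G : Type u} [Group G] [Fintype G]

/-- `∑ |χ|² = |G|`. -/
theorem sum_norm_sq {χ : G → ℂ} (hχ : IsIrrCharacter G χ) : ∑ z, ‖χ z‖ ^ 2 = (Nat.card G : ℝ) := by
  have h := Core.classInner_irr_self hχ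
  rw [Core.classInner_def, inv_mul_eq_one₀ Core.card_ne_zero_complex] at h
  have h2 : ((∑ z, ‖χ z‖ ^ 2 : ℝ) : ℂ) = ∑ g, χ g * conj (χ g) := by
    push_cast
    refine Finset.sum_congr rfl fun z _ => ?_
    rw [Complex.mul_conj, Complex.normSq_eq_norm_sq]
    push_cast
    rfl
  rw [← h] at h2
  exact_mod_cast h2

theorem norm_inv {χ : G → ℂ} (hχ : IsIrrCharacter G χ) (g : G) : ‖χ g⁻¹‖ = ‖χ g‖ := by
  rw [Core.isCharacter_apply_inv (Core.isIrr_isCharacter hχ), Complex.norm_conj]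

theorem norm_le_one {χ : G → ℂ} (hχ : IsIrrCharacter G χ) (g : G) : ‖χ g‖ ≤ ‖χ 1‖ := by
  obtain ⟨n, hn, h1⟩ := Core.isIrr_apply_one hχ
  rw [h1, Complex.norm_natCast]
  exact SchurBound.norm_le (Core.isIrr_isCharacter hχ) h1 g

/-- the average of `|χ (y ^ m)|` over `y`. -/
theorem sum_norm_pow_le {χ : G → ℂ} (hχ : IsIrrCharacter G χ) (m : ℕ) {S : Set G} {a : ℝ} {P : ℝ}
    (ha : ∀ z : G, (Nat.card {y : G // y ∈ S ∧ y ^ m = z} : ℝ) ≤ a)
    (hP : (Nat.card {y : G // y ∉ S} : ℝ) ≤ P * Nat.card G) :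
    ∑ y : G, ‖χ (y ^ m)‖ ≤ Nat.card G * (√a + P * ‖χ 1‖) := by
  classical
  have ha0 : 0 ≤ a := (Nat.cast_nonneg _).trans (ha 1)
  have hG : (0 : ℝ) < Nat.card G := by exact_mod_cast Nat.card_pos
  rw [← Finset.sum_filter_add_sum_filter_not Finset.univ (fun y => y ∈ S), mul_add]
  refine add_le_add ?_ ?_
  · have h1 : (∑ y ∈ Finset.univ.filter (fun y => y ∈ S), ‖χ (y ^ m)‖) ^ 2 ≤
        (Nat.card G : ℝ) * (a * Nat.card G) := by
      refine (sq_sum_le_card_mul_sum_sq (s := Finset.univ.filter (fun y => y ∈ S)) (f := fun y => ‖χ (y ^ m)‖)).trans ?_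
      have h2 : ((Finset.univ.filter (fun y => y ∈ S)).card : ℝ) ≤ Nat.card G := by
        rw [Nat.card_eq_fintype_card]
        exact_mod_cast Finset.card_le_univ _
      refine mul_le_mul h2 ?_ (Finset.sum_nonneg fun _ _ => by positivity) hG.le
      rw [← Finset.sum_fiberwise_of_maps_to (s := Finset.univ.filter (fun y => y ∈ S)) (t := Finset.univ)
        (g := fun y => y ^ m) (fun _ _ => Finset.mem_univ _)]
      rw [← sum_norm_sq hχ, Finset.mul_sum]
      refine Finset.sum_le_sum fun z _ => ?_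
      have h3 : ∀ y ∈ (Finset.univ.filter (fun y => y ∈ S)).filter (fun y => y ^ m = z), ‖χ (y ^ m)‖ ^ 2 = ‖χ z‖ ^ 2 := by
        intro y hy
        rw [(Finset.mem_filter.1 hy).2]
      rw [Finset.sum_congr rfl h3, Finset.sum_const, nsmul_eq_mul]
      refine mul_le_mul_of_nonneg_right ?_ (by positivity)
      have h4 := ha z
      rw [Nat.card_eq_fintype_card, Fintype.card_subtype] at h4
      rw [Finset.filter_filter]
      exact h4
    have h2 : (Nat.card G : ℝ) * (a * Nat.card G) = (Nat.card G * √a) ^ 2 := by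
      rw [mul_pow, Real.sq_sqrt ha0]
      ring
    rw [h2] at h1
    exact (sq_le_sq₀ (Finset.sum_nonneg fun _ _ => norm_nonneg _) (by positivity)).1 h1
  · refine (Finset.sum_le_sum fun y _ => norm_le_one hχ (y ^ m)).trans ?_
    rw [Finset.sum_const, nsmul_eq_mul, Nat.card_eq_fintype_card]
    rw [Nat.card_eq_fintype_card, Fintype.card_subtype, Nat.card_eq_fintype_card] at hP
    nlinarith [norm_nonneg (χ 1)]

/-- **Pairs missing a normal subset.** -/
theorem pairs_miss_le (hperf : commutator G = ⊤) {A : Set G} (hA : Normal A) {d : ℕ} (hd0 : 0 < d) (hd : MinDeg G d)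
    {K : ℕ} (hK : 0 < K) (S : ℕ → Set G) {a P : ℝ}
    (ha : ∀ m, 0 < m → m < K → ∀ z : G, (Nat.card {y : G // y ∈ S m ∧ y ^ m = z} : ℝ) ≤ a)
    (hP0 : 0 ≤ P) (hP : ∀ m, 0 < m → m < K → (Nat.card {y : G // y ∉ S m} : ℝ) ≤ P * Nat.card G) :
    (Nat.card {p : G × G // ∀ i < K, p.1 * p.2 ^ i ∉ A} : ℝ) * dens A ≤
      (Nat.card G : ℝ) ^ 2 * (1 / K + √a / d + P) := by
  classical
  have hG : (0 : ℝ) < Nat.card G := by exact_mod_cast Nat.card_pos
  have hd0' : (0 : ℝ) < d := by exact_mod_cast hd0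
  have hK' : (0 : ℝ) < K := by exact_mod_cast hK
  have hkey : ∀ χ : G → ℂ, IsIrrCharacter G χ → χ ≠ 1 → ∀ m, 0 < m → m < K →
      ∑ y : G, ‖χ (y ^ m)‖ / ‖χ 1‖ ≤ Nat.card G * (√a / d + P) := by
    intro χ hχ hne m hm hmK
    have h1 := sum_norm_pow_le hχ m (ha m hm hmK) (hP m hm hmK)
    have h2 : χ 1 ≠ 1 := fun h3 => hne (eq_one_of_perf hperf hχ h3)
    obtain ⟨n, hn, hn0, hn1⟩ := MinDeg.le hd hχ h2
    have hn' : (0 : ℝ) < n := by exact_mod_cast hn0
    have hdn : (d : ℝ) ≤ n := by exact_mod_cast hn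
    rw [← Finset.sum_div]
    rw [hn1, Complex.norm_natCast] at h1 ⊢
    rw [div_le_iff₀ hn']
    refine h1.trans ?_
    rw [mul_assoc]
    refine mul_le_mul_of_nonneg_left ?_ hG.le
    rw [add_mul]
    refine add_le_add ?_ le_rfl
    rw [div_mul_eq_mul_div, le_div_iff₀ hd0']
    exact mul_le_mul_of_nonneg_left hdn (Real.sqrt_nonneg _)
  have ha0 : ∀ m, 0 < m → m < K → 0 ≤ a := fun m hm hmK => (Nat.cast_nonneg _).trans (ha m hm hmK 1)
  set γ : ℝ := √a / d + P with hγ
  have hγ0 : 0 ≤ γ := by positivity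
  have h := sum_card_miss_mul_le hA (Ω := G) (ι := Fin K) (fun y i => y ^ (i : ℕ))
    (B := Nat.card G * (K + K ^ 2 * γ)) (by positivity) (by
      intro χ hχ hne
      rw [Finset.sum_comm]
      have h2 : ∀ i j : Fin K, ∑ y : G, (χ (y ^ (j : ℕ) * (y ^ (i : ℕ))⁻¹) / χ 1).re ≤
          Nat.card G * ((if i = j then 1 else 0) + γ) := by
        intro i j
        split_ifs with hij
        · subst hij
          have e : ∀ y : G, (χ (y ^ (i : ℕ) * (y ^ (i : ℕ))⁻¹) / χ 1).re = 1 := by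
            intro y
            rw [mul_inv_cancel, div_self (Core.isIrr_apply_one_ne_zero hχ), Complex.one_re]
          simp only [e]
          rw [Finset.sum_const, Finset.card_univ, nsmul_eq_mul, mul_one, Nat.card_eq_fintype_card]
          nlinarith [(Nat.cast_nonneg (Fintype.card G) : (0 : ℝ) ≤ _)]
        · rw [zero_add]
          have hne' : (i : ℕ) ≠ j := fun h => hij (Fin.ext h)
          rcases lt_or_gt_of_ne hne' with h3 | h3
          · refine (Finset.sum_le_sum fun y _ => ?_).trans (hkey χ hχ hne ((j : ℕ) - i) (by omega) (by omega))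
            have e : y ^ (j : ℕ) * (y ^ (i : ℕ))⁻¹ = y ^ ((j : ℕ) - i) := by
              rw [pow_sub _ h3.le]
            rw [e]
            refine (Complex.re_le_norm _).trans ?_
            rw [norm_div]
          · refine (Finset.sum_le_sum fun y _ => ?_).trans (hkey χ hχ hne ((i : ℕ) - j) (by omega) (by omega))
            have e : y ^ (j : ℕ) * (y ^ (i : ℕ))⁻¹ = (y ^ ((i : ℕ) - j))⁻¹ := by
              rw [pow_sub _ h3.le, mul_inv_rev, inv_inv]
            rw [e]
            refine (Complex.re_le_norm _).trans ?_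
            rw [norm_div, norm_inv hχ]
      have h3 : ∑ i : Fin K, ∑ y : G, ∑ j : Fin K, (χ (y ^ (j : ℕ) * (y ^ (i : ℕ))⁻¹) / χ 1).re =
          ∑ i : Fin K, ∑ j : Fin K, ∑ y : G, (χ (y ^ (j : ℕ) * (y ^ (i : ℕ))⁻¹) / χ 1).re :=
        Finset.sum_congr rfl fun i _ => Finset.sum_comm
      rw [h3]
      refine (Finset.sum_le_sum fun i _ => Finset.sum_le_sum fun j _ => h2 i j).trans (le_of_eq ?_)
      simp only [← Finset.mul_sum, Finset.sum_add_distrib, Finset.sum_ite_eq, Finset.mem_univ, if_true, Finset.sum_const,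
        Finset.card_univ, Fintype.card_fin, nsmul_eq_mul]
      ring)
  have e1 : (Nat.card {p : G × G // ∀ i < K, p.1 * p.2 ^ i ∉ A} : ℝ) =
      ∑ y : G, (Nat.card {x : G // ∀ i : Fin K, x * y ^ (i : ℕ) ∉ A} : ℝ) := by
    have e2 : Nat.card {p : G × G // ∀ i < K, p.1 * p.2 ^ i ∉ A} =
        Nat.card (Σ y : G, {x : G // ∀ i : Fin K, x * y ^ (i : ℕ) ∉ A}) := by
      refine Nat.card_congr
        { toFun := fun p => ⟨p.1.2, p.1.1, fun i => p.2 i i.2⟩
          invFun := fun q => ⟨(q.2.1, q.1), fun i hi => q.2.2 ⟨i, hi⟩⟩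
          left_inv := fun p => rfl
          right_inv := fun q => rfl }
    rw [e2, Nat.card_eq_fintype_card, Fintype.card_sigma]
    push_cast
    refine Finset.sum_congr rfl fun y _ => ?_
    rw [Nat.card_eq_fintype_card]
  rw [Fintype.card_fin, ← e1] at h
  have h5 : (0 : ℝ) < (K : ℝ) ^ 2 := by positivity
  have h6 : (Nat.card {p : G × G // ∀ i < K, p.1 * p.2 ^ i ∉ A} : ℝ) * dens A * (K : ℝ) ^ 2 ≤
      ((Nat.card G : ℝ) ^ 2 * (1 / K + γ)) * (K : ℝ) ^ 2 := by
    have e3 : ((Nat.card G : ℝ) ^ 2 * (1 / K + γ)) * (K : ℝ) ^ 2 = Nat.card G * (Nat.card G * (K + K ^ 2 * γ)) := by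
      field_simp
    rw [e3, mul_assoc]
    exact h
  have h7 := le_of_mul_le_mul_right h6 h5
  rw [hγ, ← add_assoc] at h7
  exact h7

/-- the fibres of `y ↦ y ^ m` when the centralizer of `y ^ m` is commutative. -/
theorem fib_le {m : ℕ} {S : Set G} {a : ℕ}
    (hS : ∀ y ∈ S, ∀ s ∈ centralizer ({y ^ m} : Set G), ∀ t ∈ centralizer ({y ^ m} : Set G), s * t = t * s)
    (ha : ∀ y ∈ S, Nat.card {t : G // t ∈ centralizer ({y ^ m} : Set G) ∧ t ^ m = 1} ≤ a) (z : G) :
    Nat.card {y : G // y ∈ S ∧ y ^ m = z} ≤ a := by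
  rcases isEmpty_or_nonempty {y : G // y ∈ S ∧ y ^ m = z} with h | ⟨⟨y₀, hy₀, hz⟩⟩
  · simp
  · refine le_trans ?_ (ha y₀ hy₀)
    have hmem : ∀ y : G, y ^ m = z → y ∈ centralizer ({y₀ ^ m} : Set G) := by
      intro y hy
      rw [hz, ← hy, mem_centralizer_singleton_iff]
      exact (Commute.self_pow y m).eq
    refine Nat.card_le_card_of_injective
      (fun y => ⟨y₀⁻¹ * y.1, ?_, ?_⟩) ?_
    · exact mul_mem (inv_mem (hmem y₀ hz)) (hmem y.1 y.2.2)
    · have hc : Commute y₀⁻¹ y.1 := hS y₀ hy₀ _ (inv_mem (hmem y₀ hz)) _ (hmem y.1 y.2.2)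
      rw [hc.mul_pow, inv_pow, hz, y.2.2, inv_mul_cancel]
    · intro y y' h
      apply Subtype.ext
      have := congrArg Subtype.val h
      exact mul_left_cancel this

end Cfsg.Agent.H262.Rg.Powers
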