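import Mathlib
import Cfsg.Agent.H262.Rg.Powers

/-!
# Random generation (S5714): character ratios of powers

* `Ratio G m γ` : `E_y |χ (y ^ m)| ≤ γ χ(1)` for all irreducible `χ ≠ 1`.
* `pairs_miss_of_ratio` : `P(x y^i ∉ A for all i < K) ≤ (1/K + γ) / α`.
* `ratio_of_fib` : `Ratio` from the fibres of `y ↦ y ^ m` (see `Powers.fib_le`).
* `comm_trick` : `|χ(z)|² ≤ χ(1) E_{w ∈ Y} Re χ(z w z⁻¹ w⁻¹)` for every subgroup `Y`.
* `ratio_of_comm` : `Ratio` from the commutator trick.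
-/

set_option autoImplicit false
set_option linter.unusedSectionVars false

namespace Cfsg.Agent.H262.Rg.Ratio

open Cfsg Cfsg.Agent.Characters Cfsg.Agent.H686.CharKit Cfsg.Agent.H514.DP Subgroup
open Cfsg.Agent.H262.Rg.Engine Cfsg.Agent.H262.Rg.Powers
open scoped ComplexConjugate

universe u

variable {G : Type u} [Group G] [Fintype G]

/-- the average of `|χ (y ^ m)|` over `y` is at most `γ χ(1)`. -/
def RatioM (G : Type u) [Group G] [Fintype G] (m : ℕ) (γ : ℝ) : Prop :=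
  ∀ χ : G → ℂ, IsIrrCharacter G χ → χ ≠ 1 → ∑ y : G, ‖χ (y ^ m)‖ ≤ Nat.card G * (γ * ‖χ 1‖)

theorem RatioM.mono {m : ℕ} {γ γ' : ℝ} (h : RatioM G m γ) (hγ : γ ≤ γ') : RatioM G m γ' := by
  intro χ hχ hne
  refine (h χ hχ hne).trans ?_
  gcongr

theorem RatioM.div {m : ℕ} {γ : ℝ} (h : RatioM G m γ) {χ : G → ℂ} (hχ : IsIrrCharacter G χ) (hne : χ ≠ 1) :
    ∑ y : G, ‖χ (y ^ m)‖ / ‖χ 1‖ ≤ Nat.card G * γ := by
  have h1 : 0 < ‖χ 1‖ := norm_pos_iff.2 (Core.isIrr_apply_one_ne_zero hχ)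
  rw [← Finset.sum_div, div_le_iff₀ h1, mul_assoc]
  exact h χ hχ hne

/-- **Pairs missing a normal subset, from character ratios of powers.** -/
theorem pairs_miss_of_ratio {A : Set G} (hA : Normal A) {K : ℕ} (hK : 0 < K) {γ : ℝ} (hγ0 : 0 ≤ γ)
    (hγ : ∀ m, 0 < m → m < K → RatioM G m γ) :
    (Nat.card {p : G × G // ∀ i < K, p.1 * p.2 ^ i ∉ A} : ℝ) * dens A ≤
      (Nat.card G : ℝ) ^ 2 * (1 / K + γ) := by
  classical
  have hG : (0 : ℝ) < Nat.card G := by exact_mod_cast Nat.card_pos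
  have hK' : (0 : ℝ) < K := by exact_mod_cast hK
  have hkey : ∀ χ : G → ℂ, IsIrrCharacter G χ → χ ≠ 1 → ∀ m, 0 < m → m < K →
      ∑ y : G, ‖χ (y ^ m)‖ / ‖χ 1‖ ≤ Nat.card G * γ := fun χ hχ hne m hm hmK => (hγ m hm hmK).div hχ hne
  have h := sum_card_miss_mul_le hA (Ω := G) (ι := Fin K) (fun y i => y ^ (i : ℕ))
    (B := Nat.card G * (K + K ^ 2 * γ)) (by positivity) (by
      intro χ hχ hne
      rw [Finset.sum_comm]
      have h2 : ∀ i j : Fin K, ∑ y : G, (χ (y ^ (j : ℕ) * (y ^ (i : ℕ))⁻¹) / χ 1).re ≤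
          Nat.card G * ((if i = j then 1 else 0) + γ) := by
        intro i j
        split_ifs with hij
        · subst hij
          have e : ∀ y : G, (χ (y ^ (i : ℕ) * (y ^ (i : ℕ))⁻¹) / χ 1).re = 1 := by
            intro y
            rw [mul_inv_cancel, div_self (Core.isIrr_apply_one_ne_zero hχ), Complex.one_re]
          simp only [e]
          rw [Finset.sum_const, Finset.card_univ, nsmul_eq_mul, mul_one, Nat.card_eq_fintype_card]
          nlinarith [(Nat.cast_nonneg (Fintype.card G) : (0 : ℝ) ≤ _)]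
        · rw [zero_add]
          have hne' : (i : ℕ) ≠ j := fun h => hij (Fin.ext h)
          rcases lt_or_gt_of_ne hne' with h3 | h3
          · refine (Finset.sum_le_sum fun y _ => ?_).trans (hkey χ hχ hne ((j : ℕ) - i) (by omega) (by omega))
            have e : y ^ (j : ℕ) * (y ^ (i : ℕ))⁻¹ = y ^ ((j : ℕ) - i) := by
              rw [pow_sub _ h3.le]
            rw [e]
            refine (Complex.re_le_norm _).trans ?_
            rw [norm_div]
          · refine (Finset.sum_le_sum fun y _ => ?_).trans (hkey χ hχ hne ((i : ℕ) - j) (by omega) (by omega))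
            have e : y ^ (j : ℕ) * (y ^ (i : ℕ))⁻¹ = (y ^ ((i : ℕ) - j))⁻¹ := by
              rw [pow_sub _ h3.le, mul_inv_rev, inv_inv]
            rw [e]
            refine (Complex.re_le_norm _).trans ?_
            rw [norm_div, norm_inv hχ]
      have h3 : ∑ i : Fin K, ∑ y : G, ∑ j : Fin K, (χ (y ^ (j : ℕ) * (y ^ (i : ℕ))⁻¹) / χ 1).re =
          ∑ i : Fin K, ∑ j : Fin K, ∑ y : G, (χ (y ^ (j : ℕ) * (y ^ (i : ℕ))⁻¹) / χ 1).re :=
        Finset.sum_congr rfl fun i _ => Finset.sum_comm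
      rw [h3]
      refine (Finset.sum_le_sum fun i _ => Finset.sum_le_sum fun j _ => h2 i j).trans (le_of_eq ?_)
      simp only [← Finset.mul_sum, Finset.sum_add_distrib, Finset.sum_ite_eq, Finset.mem_univ, if_true, Finset.sum_const,
        Finset.card_univ, Fintype.card_fin, nsmul_eq_mul]
      ring)
  have e1 : (Nat.card {p : G × G // ∀ i < K, p.1 * p.2 ^ i ∉ A} : ℝ) =
      ∑ y : G, (Nat.card {x : G // ∀ i : Fin K, x * y ^ (i : ℕ) ∉ A} : ℝ) := by
    have e2 : Nat.card {p : G × G // ∀ i < K, p.1 * p.2 ^ i ∉ A} =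
        Nat.card (Σ y : G, {x : G // ∀ i : Fin K, x * y ^ (i : ℕ) ∉ A}) := by
      refine Nat.card_congr
        { toFun := fun p => ⟨p.1.2, p.1.1, fun i => p.2 i i.2⟩
          invFun := fun q => ⟨(q.2.1, q.1), fun i hi => q.2.2 ⟨i, hi⟩⟩
          left_inv := fun p => rfl
          right_inv := fun q => rfl }
    rw [e2, Nat.card_eq_fintype_card, Fintype.card_sigma]
    push_cast
    refine Finset.sum_congr rfl fun y _ => ?_
    rw [Nat.card_eq_fintype_card]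
  rw [Fintype.card_fin, ← e1] at h
  have h5 : (0 : ℝ) < (K : ℝ) ^ 2 := by positivity
  have h6 : (Nat.card {p : G × G // ∀ i < K, p.1 * p.2 ^ i ∉ A} : ℝ) * dens A * (K : ℝ) ^ 2 ≤
      ((Nat.card G : ℝ) ^ 2 * (1 / K + γ)) * (K : ℝ) ^ 2 := by
    have e3 : ((Nat.card G : ℝ) ^ 2 * (1 / K + γ)) * (K : ℝ) ^ 2 = Nat.card G * (Nat.card G * (K + K ^ 2 * γ)) := by
      field_simp
    rw [e3, mul_assoc]
    exact h
  exact le_of_mul_le_mul_right h6 h5

/-- `RatioM` from the fibres of `y ↦ y ^ m` on a set `S` of density `≥ 1 - P`. -/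
theorem ratio_of_fib (hperf : commutator G = ⊤) {d : ℕ} (hd0 : 0 < d) (hd : MinDeg G d) {m : ℕ} {S : Set G} {a P : ℝ}
    (ha : ∀ z : G, (Nat.card {y : G // y ∈ S ∧ y ^ m = z} : ℝ) ≤ a)
    (hP : (Nat.card {y : G // y ∉ S} : ℝ) ≤ P * Nat.card G) : RatioM G m (√a / d + P) := by
  intro χ hχ hne
  refine (sum_norm_pow_le hχ m ha hP).trans ?_
  have hd0' : (0 : ℝ) < d := by exact_mod_cast hd0
  have h2 : χ 1 ≠ 1 := fun h3 => hne (eq_one_of_perf hperf hχ h3)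
  obtain ⟨n, hn, hn0, hn1⟩ := MinDeg.le hd hχ h2
  have hdn : (d : ℝ) ≤ ‖χ 1‖ := by
    rw [hn1, Complex.norm_natCast]
    exact_mod_cast hn
  refine mul_le_mul_of_nonneg_left ?_ (Nat.cast_nonneg _)
  rw [add_mul]
  refine add_le_add ?_ le_rfl
  rw [div_mul_eq_mul_div, le_div_iff₀ hd0']
  exact mul_le_mul_of_nonneg_left hdn (Real.sqrt_nonneg _)

/-- `RatioM` from a pointwise bound on a set of density `≥ 1 - P`. -/
theorem ratio_of_pointwise {m : ℕ} {S : Set G} {β P : ℝ} (hβ0 : 0 ≤ β)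
    (hβ : ∀ y ∈ S, ∀ χ : G → ℂ, IsIrrCharacter G χ → χ ≠ 1 → ‖χ (y ^ m)‖ ≤ β * ‖χ 1‖)
    (hP : (Nat.card {y : G // y ∉ S} : ℝ) ≤ P * Nat.card G) : RatioM G m (β + P) := by
  classical
  intro χ hχ hne
  rw [← Finset.sum_filter_add_sum_filter_not Finset.univ (fun y => y ∈ S), add_mul, mul_add]
  refine add_le_add ?_ ?_
  · refine (Finset.sum_le_sum fun y hy => hβ y (Finset.mem_filter.1 hy).2 χ hχ hne).trans ?_
    rw [Finset.sum_const, nsmul_eq_mul]
    refine mul_le_mul_of_nonneg_right ?_ (by positivity)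
    rw [Nat.card_eq_fintype_card]
    exact_mod_cast Finset.card_le_univ _
  · refine (Finset.sum_le_sum fun y _ => norm_le_one hχ (y ^ m)).trans ?_
    rw [Finset.sum_const, nsmul_eq_mul, Nat.card_eq_fintype_card]
    rw [Nat.card_eq_fintype_card, Fintype.card_subtype, Nat.card_eq_fintype_card] at hP
    nlinarith [norm_nonneg (χ 1)]

theorem irr_comm {χ : G → ℂ} (hχ : IsIrrCharacter G χ) (a b : G) : χ (a * b) = χ (b * a) := by
  have := Core.isIrr_isClassFunction hχ (b * a) a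
  rw [← this]
  congr 1
  group

theorem conv_irr {χ : G → ℂ} (hχ : IsIrrCharacter G χ) (g h : G) :
    ∑ x, χ (x * g) * conj (χ (x * h)) = Nat.card G / χ 1 * χ (h⁻¹ * g) := by
  have h1 := Cfsg.Agent.Classification.TypeZIV.Parity.sum_conv (Core.isIrr_isClassFunction hχ) hχ (h⁻¹ * g)
  have h2 : ∑ y, χ y * conj (χ y) = (Nat.card G : ℂ) := by
    have h := Core.classInner_irr_self hχ
    rw [Core.classInner_def, inv_mul_eq_one₀ Core.card_ne_zero_complex] at h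
    exact h.symm
  rw [h2] at h1
  rw [← h1]
  refine Fintype.sum_equiv (Equiv.mulRight h) _ _ fun x => ?_
  rw [Equiv.coe_mulRight, irr_comm hχ (h⁻¹ * g) (x * h)]
  congr 2
  group

/-- **Commutator trick.** -/
theorem comm_trick {χ : G → ℂ} (hχ : IsIrrCharacter G χ) (Y : Subgroup G) [Fintype Y] (z : G) :
    ‖χ z‖ ^ 2 * Fintype.card Y ≤ ‖χ 1‖ * ∑ w : Y, (χ (z * w * z⁻¹ * (w : G)⁻¹)).re := by
  classical
  have hG : (0 : ℝ) < Nat.card G := by exact_mod_cast Nat.card_pos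
  have hY : (0 : ℝ) < Fintype.card Y := by exact_mod_cast Fintype.card_pos
  obtain ⟨n, hn0, hn1⟩ := Core.isIrr_apply_one hχ
  have hn : (0 : ℝ) < n := by exact_mod_cast hn0
  have hnC : (n : ℂ) ≠ 0 := by exact_mod_cast hn0.ne'
  -- the function `Φ`
  set Φ : G → ℂ := fun x => ∑ w : Y, χ (x * ((w : G)⁻¹ * z⁻¹ * w)) with hΦ
  -- first moment against `χ`
  have h1 : ∑ x, Φ x * conj (χ x) = Fintype.card Y * (Nat.card G / n * χ z⁻¹) := by
    have e1 : ∀ x, Φ x * conj (χ x) = ∑ w : Y, χ (x * ((w : G)⁻¹ * z⁻¹ * w)) * conj (χ (x * 1)) := by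
      intro x
      rw [hΦ, Finset.sum_mul, mul_one]
    simp only [e1]
    rw [Finset.sum_comm]
    have e2 : ∀ w : Y, ∑ x, χ (x * ((w : G)⁻¹ * z⁻¹ * w)) * conj (χ (x * 1)) = Nat.card G / n * χ z⁻¹ := by
      intro w
      rw [conv_irr hχ, hn1, inv_one, one_mul]
      have := Core.isIrr_isClassFunction hχ z⁻¹ (w : G)⁻¹
      rw [inv_inv] at this
      rw [this]
    simp only [e2]
    rw [Finset.sum_const, Finset.card_univ, nsmul_eq_mul]
  -- second moment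
  have h2 : ((∑ x, ‖Φ x‖ ^ 2 : ℝ) : ℂ) = Nat.card G / n * (Fintype.card Y * ∑ u : Y, χ (z * u * z⁻¹ * (u : G)⁻¹)) := by
    have e1 : ((∑ x, ‖Φ x‖ ^ 2 : ℝ) : ℂ) = ∑ x, ∑ w : Y, ∑ w' : Y,
        χ (x * ((w : G)⁻¹ * z⁻¹ * w)) * conj (χ (x * ((w' : G)⁻¹ * z⁻¹ * w'))) := by
      push_cast
      refine Finset.sum_congr rfl fun x _ => ?_
      have : ((‖Φ x‖ : ℂ)) ^ 2 = Φ x * conj (Φ x) := by
        rw [Complex.mul_conj, Complex.normSq_eq_norm_sq]
        push_cast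
        rfl
      rw [this, hΦ]
      simp only [map_sum]
      rw [Finset.sum_mul_sum]
    rw [e1, Finset.sum_comm]
    have e2 : ∀ w : Y, ∑ x, ∑ w' : Y, χ (x * ((w : G)⁻¹ * z⁻¹ * w)) * conj (χ (x * ((w' : G)⁻¹ * z⁻¹ * w'))) =
        Nat.card G / n * ∑ u : Y, χ (z * u * z⁻¹ * (u : G)⁻¹) := by
      intro w
      rw [Finset.sum_comm, Finset.mul_sum]
      refine Fintype.sum_equiv (Equiv.mulRight w⁻¹) _ _ fun w' => ?_
      rw [conv_irr hχ, hn1, Equiv.coe_mulRight, Subgroup.coe_mul, Subgroup.coe_inv]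
      congr 1
      have := Core.isIrr_isClassFunction hχ (((w' : G)⁻¹ * z⁻¹ * w')⁻¹ * ((w : G)⁻¹ * z⁻¹ * w)) w'
      rw [← this]
      congr 1
      group
    simp only [e2]
    rw [Finset.sum_const, Finset.card_univ, nsmul_eq_mul]
    ring
  -- Cauchy-Schwarz
  have h3 : ‖∑ x, Φ x * conj (χ x)‖ ^ 2 ≤ (∑ x, ‖Φ x‖ ^ 2) * Nat.card G := by
    rw [← sum_norm_sq hχ]
    have e1 : ‖∑ x, Φ x * conj (χ x)‖ ≤ ∑ x, ‖Φ x‖ * ‖χ x‖ := by
      refine (norm_sum_le _ _).trans (le_of_eq ?_)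
      refine Finset.sum_congr rfl fun x _ => ?_
      rw [norm_mul, Complex.norm_conj]
    refine (pow_le_pow_left₀ (norm_nonneg _) e1 2).trans ?_
    exact Finset.sum_mul_sq_le_sq_mul_sq _ _ _
  have h4 : (∑ x, ‖Φ x‖ ^ 2) = Nat.card G / n * (Fintype.card Y * ∑ u : Y, (χ (z * u * z⁻¹ * (u : G)⁻¹)).re) := by
    have := congrArg Complex.re h2
    rw [Complex.ofReal_re] at this
    rw [this]
    have e1 : (Nat.card G / n * (Fintype.card Y * ∑ u : Y, χ (z * u * z⁻¹ * (u : G)⁻¹)) : ℂ) =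
        ((Nat.card G / n * Fintype.card Y : ℝ) : ℂ) * ∑ u : Y, χ (z * u * z⁻¹ * (u : G)⁻¹) := by
      push_cast
      ring
    rw [e1, Complex.re_ofReal_mul, Complex.re_sum]
    ring
  rw [h1, h4] at h3
  rw [norm_mul, norm_mul, norm_div, norm_inv hχ, Complex.norm_natCast, Complex.norm_natCast, Complex.norm_natCast] at h3
  rw [hn1, Complex.norm_natCast]
  set s : ℝ := ∑ u : Y, (χ (z * u * z⁻¹ * (u : G)⁻¹)).re with hs
  set c : ℝ := ‖χ z‖ with hc
  set g : ℝ := (Nat.card G : ℝ) with hg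
  set k : ℝ := (Fintype.card Y : ℝ) with hk
  have h5 : (k * (g / n * c)) ^ 2 = (g ^ 2 * k / n ^ 2) * (c ^ 2 * k) := by
    field_simp
  have h6 : g / n * (k * s) * g = (g ^ 2 * k / n ^ 2) * (n * s) := by
    field_simp
  rw [h5, h6] at h3
  exact le_of_mul_le_mul_left h3 (by positivity)

/-- The pointwise bound from the commutator trick. -/
theorem norm_le_of_comm {χ : G → ℂ} (hχ : IsIrrCharacter G χ) (Y : Subgroup G) [Fintype Y] (z : G) {β : ℝ}
    (hβ : ∑ w : Y, (χ (z * w * z⁻¹ * (w : G)⁻¹)).re ≤ β * Fintype.card Y * ‖χ 1‖) : ‖χ z‖ ≤ √β * ‖χ 1‖ := by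
  have hY : (0 : ℝ) < Fintype.card Y := by exact_mod_cast Fintype.card_pos
  have h1 : 0 < ‖χ 1‖ := norm_pos_iff.2 (Core.isIrr_apply_one_ne_zero hχ)
  have h := comm_trick hχ Y z
  have h2 : ‖χ z‖ ^ 2 * Fintype.card Y ≤ (β * ‖χ 1‖ ^ 2) * Fintype.card Y := by
    refine h.trans ?_
    have := mul_le_mul_of_nonneg_left hβ h1.le
    linarith
  have h3 := le_of_mul_le_mul_right h2 hY
  have h4 : ‖χ z‖ = √(‖χ z‖ ^ 2) := (Real.sqrt_sq (norm_nonneg _)).symm
  rw [h4]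
  refine (Real.sqrt_le_sqrt h3).trans (le_of_eq ?_)
  rcases le_or_gt 0 β with hb | hb
  · rw [Real.sqrt_mul hb, Real.sqrt_sq h1.le]
  · rw [Real.sqrt_eq_zero'.2 hb.le, zero_mul, Real.sqrt_eq_zero']
    nlinarith [sq_nonneg ‖χ 1‖]

end Cfsg.Agent.H262.Rg.Ratio
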